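import Cfsg.Agent.H20.RIM.AS
import Cfsg.Agent.H586.NX.Tools
import Cfsg.Agent.OrdDiv.Table
import Cfsg.Agent.S0000
import Mathlib.LinearAlgebra.Matrix.GeneralLinearGroup.Card

/-!
# S4816, layer (B), `q = p`: tools for the numerical boxes (helper111)

* `card_faithful` : a `3`-group acting faithfully on an elementary abelian group of order `2 ^ i` has order dividing `|GL_i(2)|`;
* `index_nine` : `N * 9 ≤ |Y / X|` if the Sylow `3`-subgroup has order `9` and `X` is central;
* `card_le_of_not_27` : the simple groups of order dividing `2^25 3^2 5^2 7 11 17 31` have order at most `|L_5(2)|`.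
-/

set_option autoImplicit false
set_option linter.unusedSectionVars false

open Subgroup

namespace Cfsg.Agent.H111.RIM

open Module

theorem card_dvd_of_end {K : Type*} [Field K] [Finite K] {V : Type*} [AddCommGroup V] [Module K V] {n : ℕ}
    (b : Basis (Fin n) K V) {G : Type*} [Group G] (f : G →* Module.End K V) (hf : Function.Injective f) :
    Nat.card G ∣ ∏ i : Fin n, (Nat.card K ^ n - Nat.card K ^ (i : ℕ)) := by
  classical
  let _ : Fintype K := Fintype.ofFinite K
  let m : G →* Matrix (Fin n) (Fin n) K := (LinearMap.toMatrixAlgEquiv b).toMulEquiv.toMonoidHom.comp f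
  have hm : Function.Injective m := fun g h hgh => hf ((LinearMap.toMatrixAlgEquiv b).injective hgh)
  have hu : Function.Injective m.toHomUnits := by
    intro g h hgh
    apply hm
    exact congrArg (fun u : (Matrix (Fin n) (Fin n) K)ˣ => (u : Matrix (Fin n) (Fin n) K)) hgh
  have h2 := Subgroup.card_dvd_of_injective m.toHomUnits hu
  have h3 : Nat.card ((Matrix (Fin n) (Fin n) K)ˣ) = ∏ i : Fin n, (Fintype.card K ^ n - Fintype.card K ^ (i : ℕ)) :=
    Matrix.card_GL_field n
  rwa [h3, ← Nat.card_eq_fintype_card] at h2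

section
variable {Y U : Type*} [Group Y] [Finite Y] [AddCommGroup U] [Finite U] [DistribMulAction Y U]

/-- the action of `P` on the invariant subgroup `T` -/
def endT (P : Subgroup Y) (T : AddSubgroup U) (hT : ∀ m ∈ P, ∀ t ∈ T, m • t ∈ T) : P →* AddMonoid.End T where
  toFun m :=
    { toFun := fun t => ⟨(m : Y) • (t : U), hT m m.2 t t.2⟩
      map_zero' := Subtype.ext (smul_zero _)
      map_add' := fun a b => Subtype.ext (smul_add _ _ _) }
  map_one' := by ext t; exact one_smul _ _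
  map_mul' a b := by ext t; exact mul_smul _ _ _

theorem card_faithful {P : Subgroup Y} (hP3 : IsPGroup 3 P) {T : AddSubgroup U} (hexp : ∀ u : U, 2 • u = 0)
    (hT : ∀ m ∈ P, ∀ t ∈ T, m • t ∈ T) {i : ℕ} (hTc : Nat.card T = 2 ^ i)
    (hfaith : ∀ x ∈ P, orderOf x = 3 → ¬ ∀ t ∈ T, x • t = t) : Nat.card P ∣ ∏ k : Fin i, (2 ^ i - 2 ^ (k : ℕ)) := by
  have h1 : ∀ v : T, 2 • v = 0 := fun v => Subtype.ext (hexp v)
  let _ : Module (ZMod 2) T := AddCommGroup.zmodModule h1
  have hfr : finrank (ZMod 2) T = i := by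
    have h2 := Module.natCard_eq_pow_finrank (K := ZMod 2) (V := T)
    rw [Nat.card_zmod, hTc] at h2
    exact (Nat.pow_right_injective le_rfl h2).symm
  let b : Basis (Fin i) (ZMod 2) T := (finBasis (ZMod 2) T).reindex (finCongr hfr)
  let f : P →* Module.End (ZMod 2) T :=
    { toFun := fun m => AddMonoidHom.toZModLinearMap 2 (endT P T hT m)
      map_one' := by ext t; exact one_smul Y (t : U)
      map_mul' := fun a b => by ext t; exact mul_smul (a : Y) (b : Y) (t : U) }
  have hf : Function.Injective f := by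
    rw [injective_iff_map_eq_one]
    intro x hx
    by_contra hx1
    have hker : ∀ t ∈ T, (x : Y) • t = t := fun t ht =>
      congrArg Subtype.val (LinearMap.congr_fun hx ⟨t, ht⟩)
    -- a power of order 3
    obtain ⟨k, hk⟩ := (IsPGroup.iff_orderOf.1 hP3) x
    have hk0 : k ≠ 0 := by
      rintro rfl
      rw [pow_zero, orderOf_eq_one_iff] at hk
      exact hx1 hk
    obtain ⟨j, rfl⟩ := Nat.exists_eq_succ_of_ne_zero hk0
    have hxo : orderOf (x : Y) = 3 ^ (j + 1) := by rw [Subgroup.orderOf_coe]; exact hk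
    have hy : orderOf ((x : Y) ^ (3 ^ j)) = 3 := by
      rw [orderOf_pow_of_dvd (pow_ne_zero j (by norm_num)) (by rw [hxo]; exact pow_dvd_pow 3 (Nat.le_succ j)), hxo, pow_succ,
        Nat.mul_div_cancel_left _ (pow_pos (by norm_num) j)]
    have hpow : ∀ (e : ℕ), ∀ t ∈ T, ((x : Y) ^ e) • t = t := by
      intro e
      induction e with
      | zero => intro t _; rw [pow_zero, one_smul]
      | succ e ih => intro t ht; rw [pow_succ, mul_smul, hker t ht, ih t ht]
    exact hfaith _ (P.pow_mem x.2 _) hy (hpow _)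
  have h2 := card_dvd_of_end b f hf
  rwa [Nat.card_zmod] at h2

theorem index_nine {X : Subgroup Y} (hX : X ≤ center Y) [X.Normal] (h3 : ¬ 3 ∣ Nat.card X) {P : Subgroup Y}
    (hP : Nat.card P = 9) {x : Y} (hx : x ∈ P) :
    (normalizer ((zpowers x : Subgroup Y) : Set Y)).index * 9 ≤ Nat.card (Y ⧸ X) := by
  have hf : Fact (Nat.Prime 3) := ⟨Nat.prime_three⟩
  have hcomm : ∀ a b : P, a * b = b * a :=
    (IsPGroup.isMulCommutative_of_card_eq_prime_sq (p := 3) (by rw [hP]; norm_num)).is_comm.comm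
  have h1 : X ⊔ P ≤ centralizer ({x} : Set Y) := by
    rw [sup_le_iff]
    refine ⟨fun y hy => ?_, fun y hy => ?_⟩
    · rw [mem_centralizer_singleton_iff]
      exact (mem_center_iff.1 (hX hy) x).symm
    · rw [mem_centralizer_singleton_iff]
      exact congrArg Subtype.val (hcomm ⟨y, hy⟩ ⟨x, hx⟩)
  have h1' := h1.trans (Cfsg.Agent.H586.NX.centralizer_le_normalizer_zpowers x)
  have hcop : (Nat.card X).Coprime 9 :=
    (Nat.Coprime.pow_right 2 (((Nat.Prime.coprime_iff_not_dvd Nat.prime_three).2 h3).symm) : (Nat.card X).Coprime (3 ^ 2))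
  have hd1 : Nat.card X ∣ Nat.card (normalizer ((zpowers x : Subgroup Y) : Set Y)) :=
    card_dvd_of_le (le_sup_left.trans h1')
  have hd2 : 9 ∣ Nat.card (normalizer ((zpowers x : Subgroup Y) : Set Y)) := by
    have := card_dvd_of_le (le_sup_right.trans h1')
    rwa [hP] at this
  have h2 : Nat.card X * 9 ≤ Nat.card (normalizer ((zpowers x : Subgroup Y) : Set Y)) :=
    Nat.le_of_dvd Nat.card_pos (hcop.mul_dvd_of_dvd_of_dvd hd1 hd2)
  have h3' := (normalizer ((zpowers x : Subgroup Y) : Set Y)).card_mul_index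
  have h4 := X.card_mul_index
  rw [Subgroup.index_eq_card] at h4
  have hXpos : 0 < Nat.card X := Nat.card_pos
  refine Nat.le_of_mul_le_mul_left ?_ hXpos
  rw [h4, ← h3']
  calc Nat.card X * ((normalizer ((zpowers x : Subgroup Y) : Set Y)).index * 9)
      = (Nat.card X * 9) * (normalizer ((zpowers x : Subgroup Y) : Set Y)).index := by ring
    _ ≤ _ := Nat.mul_le_mul_right _ h2

end

open Cfsg Cfsg.Agent.OrdDiv

theorem card_le_of_not_27 {S : Type*} [Group S] [Finite S] [IsSimpleGroup S] (hna : ¬ IsMulCommutative S)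
    (h3 : 3 ∣ Nat.card S) (h27 : ¬ 27 ∣ Nat.card S) (hd : Nat.card S ∣ 2 ^ 25 * 3 ^ 6 * 5 ^ 2 * 7 * 11 * 17 * 31) :
    Nat.card S ≤ 9999360 := by
  have hd' : Nat.card S ∣ 2 ^ 25 * 3 ^ 2 * 5 ^ 2 * 7 * 11 * 17 * 31 := by
    have h0 : Nat.card S ≠ 0 := Nat.card_pos.ne'
    obtain ⟨e, m, hm3, hm⟩ := Nat.exists_eq_pow_mul_and_not_dvd h0 3 (by norm_num)
    have he : e ≤ 2 := by
      by_contra hcon
      apply h27
      rw [hm]
      exact Dvd.dvd.mul_right (pow_dvd_pow 3 (by omega : 3 ≤ e)) m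
    have hc : m.Coprime (3 ^ 6) :=
      Nat.Coprime.pow_right 6 (((Nat.Prime.coprime_iff_not_dvd Nat.prime_three).2 hm3).symm)
    have h1 : m ∣ (2 ^ 25 * 5 ^ 2 * 7 * 11 * 17 * 31) * 3 ^ 6 := by
      refine (Dvd.intro_left _ hm.symm).trans (hd.trans (dvd_of_eq (by norm_num)))
    have h2 : m ∣ 2 ^ 25 * 5 ^ 2 * 7 * 11 * 17 * 31 := hc.dvd_of_dvd_mul_right h1
    rw [hm]
    refine (mul_dvd_mul (pow_dvd_pow 3 he) h2).trans (dvd_of_eq (by norm_num))
  obtain ⟨g, hg, -, hcard⟩ := exists_good table (S := S) Cfsg.Agent.S0000.result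
    (fun h => hna ⟨⟨h⟩⟩) (l := [(2, 25), (3, 2), (5, 2), (7, 1), (11, 1), (17, 1), (31, 1)])
    (N := 2 ^ 25 * 3 ^ 2 * 5 ^ 2 * 7 * 11 * 17 * 31)
    (by decide +kernel) hd'
  have hj : ((cands [(2, 25), (3, 2), (5, 2), (7, 1), (11, 1), (17, 1), (31, 1)]
      (2 ^ 25 * 3 ^ 2 * 5 ^ 2 * 7 * 11 * 17 * 31)).map ordN).all
      (fun o => Nat.ble o 9999360 || !(o % 3 == 0)) = true := by
    decide +kernel
  rw [List.all_eq_true] at hj
  have hj' := hj _ (List.mem_map.2 ⟨g, hg, rfl⟩)
  rw [← hcard] at hj'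
  simp only [Bool.or_eq_true, Nat.ble_eq, Bool.not_eq_true', beq_eq_false_iff_ne] at hj'
  have h4 : Nat.card S % 3 = 0 := by omega
  tauto

end Cfsg.Agent.H111.RIM
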